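import Cfsg.Agent.Lib.PrimeGraphFour.Basic
import Mathlib

/-!
Groups acting on a finite abelian group `A`, fixing a subgroup `T` pointwise and semiregularly
on `A \ T`.
-/

set_option autoImplicit false

namespace Cfsg.Agent.Lib.RegularClasses

open Subgroup Finset
open scoped commutatorElement

variable {A W : Type*} [CommGroup A] [Group W] [Finite W]

/-- Semiregular action on `A \ T`, trivial on `T`. -/
structure SemiregOff (φ : W →* MulAut A) (T : Subgroup A) : Prop where
  fix : ∀ w, ∀ t ∈ T, φ w t = t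
  free : ∀ w a, φ w a = a → w = 1 ∨ a ∈ T

theorem eq_one_of_coprime_pows {G : Type*} [Group G] {t : G} {m n : ℕ} (hm : t ^ m = 1)
    (hn : t ^ n = 1) (h : m.Coprime n) : t = 1 :=
  orderOf_eq_one_iff.mp (Nat.dvd_one.mp (h ▸ Nat.dvd_gcd (orderOf_dvd_of_pow_eq_one hm)
    (orderOf_dvd_of_pow_eq_one hn)))

variable {φ : W →* MulAut A} {T : Subgroup A} (H : SemiregOff φ T)
include H

omit [Finite W] in
theorem norm_range_mem {w : W} {n : ℕ} (hn : w ^ n = 1) (hw : w ≠ 1) (a : A) :
    ∏ i ∈ range n, φ (w ^ i) a ∈ T := by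
  refine (H.free w _ ?_).resolve_left hw
  rw [map_prod]
  have e : ∀ i, φ w (φ (w ^ i) a) = φ (w ^ (i + 1)) a := fun i => by rw [pow_succ', map_mul]; rfl
  simp only [e]
  have h := prod_range_succ' (fun i => φ (w ^ i) a) n
  rw [prod_range_succ, hn, pow_zero] at h
  exact (mul_right_cancel h).symm

omit [Finite W] in
theorem norm_subgroup_mem (U : Subgroup W) [Fintype U] (hU : U ≠ ⊥) (a : A) :
    ∏ u : U, φ (u : W) a ∈ T := by
  obtain ⟨v, hv, hv1⟩ := (bot_or_exists_ne_one U).resolve_left hU
  refine (H.free v _ ?_).resolve_left hv1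
  rw [map_prod]
  refine Fintype.prod_equiv (Equiv.mulLeft (⟨v, hv⟩ : U)) _ _ fun u => ?_
  simp [map_mul]

omit [Finite W] in
/-- A commuting pair of elements of coprime orders forces a fixed point. -/
theorem comm_false {q k e : ℕ} (hq : q.Prime) (hex : ∃ a : A, (∃ j, orderOf a = q ^ j) ∧ a ∉ T)
    {u z : W} (hu : u ^ q ^ e = 1) (hu1 : u ≠ 1) (hz : z ^ k = 1) (hz1 : z ≠ 1)
    (hk : k.Coprime q) (hc : Commute u z) : False := by
  -- an element moved by `u` inside `T`
  obtain ⟨a, ⟨j, hj⟩, haT, hua⟩ : ∃ a : A, (∃ j, a ^ q ^ j = 1) ∧ a ∉ T ∧ φ u a * a⁻¹ ∈ T := by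
    obtain ⟨a₀, ⟨j, hj⟩, ha₀⟩ := hex
    let f : A → A := fun a => φ u a * a⁻¹
    by_contra hno
    push Not at hno
    have hstep : ∀ n, (f^[n] a₀) ^ q ^ j = 1 ∧ f^[n] a₀ ∉ T := by
      intro n
      induction n with
      | zero => exact ⟨by rw [← hj]; exact pow_orderOf_eq_one a₀, ha₀⟩
      | succ n ih =>
        rw [Function.iterate_succ_apply']
        exact ⟨by simp only [f, mul_pow, inv_pow, ← map_pow, ih.1, map_one, inv_one, mul_one],
          hno _ ⟨j, ih.1⟩ ih.2⟩
    let U : AddMonoid.End (Additive A) := MonoidHom.toAdditive (φ u).toMonoidHom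
    have hUn : ∀ n (x : A), (U ^ n) (Additive.ofMul x) = Additive.ofMul (φ (u ^ n) x) := by
      intro n
      induction n with
      | zero => intro x; simp
      | succ n ih =>
        intro x
        rw [pow_succ', pow_succ']
        show U ((U ^ n) (Additive.ofMul x)) = _
        rw [ih, map_mul]; rfl
    have hUQ : U ^ q ^ e = 1 := by
      refine AddMonoidHom.ext fun x => ?_
      obtain ⟨x, rfl⟩ := Additive.ofMul.surjective x
      exact (hUn _ x).trans (by rw [hu, map_one]; rfl)
    obtain ⟨r, hr⟩ := (Commute.one_right (U - 1)).exists_add_pow_prime_pow_eq hq e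
    rw [sub_add_cancel, hUQ, one_pow, mul_one] at hr
    obtain ⟨s, hd⟩ : ∃ s : AddMonoid.End (Additive A), (U - 1) ^ q ^ e = (q : AddMonoid.End (Additive A)) * s := by
      have h := hr
      rw [add_right_comm, mul_assoc, eq_comm, add_eq_right] at h
      refine ⟨0 - (U - 1) * r, ?_⟩
      rw [mul_sub, mul_zero, eq_sub_iff_add_eq]
      exact h
    have hzero : ((U - 1) ^ (q ^ e * j)) (Additive.ofMul a₀) = 0 := by
      rw [pow_mul, hd, (Nat.cast_commute q _).mul_pow, ← Nat.cast_pow,
        (Nat.cast_commute (q ^ j) _).eq]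
      show (s ^ j) (((q ^ j : ℕ) : AddMonoid.End (Additive A)) (Additive.ofMul a₀)) = 0
      rw [AddMonoid.End.natCast_apply, ← ofMul_pow, ← hj, pow_orderOf_eq_one, ofMul_one, map_zero]
    have hf : ∀ n, ((U - 1) ^ n) (Additive.ofMul a₀) = Additive.ofMul (f^[n] a₀) := by
      intro n
      induction n with
      | zero => simp
      | succ n ih =>
        rw [pow_succ', Function.iterate_succ_apply']
        show (U - 1) (((U - 1) ^ n) (Additive.ofMul a₀)) = _
        rw [ih]
        show U (Additive.ofMul (f^[n] a₀)) - Additive.ofMul (f^[n] a₀) = _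
        rw [sub_eq_add_neg]; rfl
    exact (hstep (q ^ e * j)).2 (by
      rw [hf] at hzero
      rw [show f^[q ^ e * j] a₀ = 1 from Additive.ofMul.injective hzero]
      exact one_mem T)
  set d := φ z a * a⁻¹ with hd
  have hdT : d ∈ T := by
    refine (H.free u _ ?_).resolve_left hu1
    have h1 : φ u (φ z a) = (φ u a * a⁻¹) * φ z a := by
      calc φ u (φ z a) = φ (u * z) a := by rw [map_mul]; rfl
        _ = φ z (φ u a) := by rw [hc.eq, map_mul]; rfl
        _ = φ z ((φ u a * a⁻¹) * a) := by rw [inv_mul_cancel_right]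
        _ = (φ u a * a⁻¹) * φ z a := by rw [map_mul, H.fix z _ hua]
    rw [hd, map_mul, map_inv, h1, mul_assoc, mul_comm (φ z a), ← mul_assoc,
      mul_comm (φ u a * a⁻¹) (φ u a)⁻¹, inv_mul_cancel_left, mul_comm]
  have hpow : ∀ n : ℕ, φ (z ^ n) a = d ^ n * a := by
    intro n
    induction n with
    | zero => simp
    | succ n ih =>
      rw [pow_succ', map_mul]
      show φ z (φ (z ^ n) a) = _
      rw [ih, map_mul, map_pow, H.fix z d hdT, pow_succ, mul_assoc, mul_assoc]
      congr 1
      simp [hd, mul_assoc]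
  have hdk : d ^ k = 1 := by
    have := hpow k
    rw [hz, map_one] at this
    exact mul_eq_right.mp this.symm
  have hdq : d ^ q ^ j = 1 := by rw [hd, mul_pow, inv_pow, ← map_pow, hj, map_one, inv_one, mul_one]
  have hd1 : d = 1 := eq_one_of_coprime_pows hdk hdq (hk.pow_right j)
  rcases H.free z a (by have := hpow 1; rwa [pow_one, pow_one, hd1, one_mul] at this) with h | h
  · exact hz1 h
  · exact haT h

omit [Finite W] in
/-- Two subgroups forming a Frobenius group. -/
theorem pow_card_mem_of_frobenius (V R : Subgroup W) [Fintype V] [Fintype R] (hV : V ≠ ⊥) (hR : R ≠ ⊥)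
    (hn : ∀ g ∈ R, ∀ u ∈ V, g * u * g⁻¹ ∈ V)
    (hfix : ∀ g ∈ R, g ≠ 1 → ∀ u ∈ V, g * u = u * g → u = 1) (a : A) :
    a ^ Fintype.card V ∈ T := by
  classical
  have h1 : ∏ u : V, ∏ g : R, φ ((u : W) * g * (u : W)⁻¹) a ∈ T := by
    refine prod_mem fun u _ => ?_
    have e : ∀ g : R, φ ((u : W) * g * (u : W)⁻¹) a = φ (u : W) (φ (g : W) (φ (u : W)⁻¹ a)) := fun g => by
      rw [map_mul, map_mul]; rfl
    simp only [e]
    rw [← map_prod, H.fix _ _ (norm_subgroup_mem H R hR _)]
    exact norm_subgroup_mem H R hR _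
  rw [prod_comm, ← mul_prod_erase univ _ (mem_univ (1 : R))] at h1
  have h2 : ∏ g ∈ univ.erase (1 : R), ∏ u : V, φ ((u : W) * g * (u : W)⁻¹) a ∈ T := by
    refine prod_mem fun g hg => ?_
    have hg1 : (g : W) ≠ 1 := fun h => (mem_erase.mp hg).1 (Subtype.ext h)
    let f : V → V := fun u => ⟨(u : W) * ((g : W) * (u : W)⁻¹ * (g : W)⁻¹),
      mul_mem u.2 (hn _ g.2 _ (inv_mem u.2))⟩
    have hf : Function.Injective f := by
      intro u u' huu
      have h := congrArg (fun x : V => (x : W) * (g : W)) huu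
      simp only [f, mul_assoc, inv_mul_cancel, mul_one] at h
      have h' := hfix _ g.2 hg1 ((u' : W)⁻¹ * u) (mul_mem (inv_mem u'.2) u.2) (by
        have h3 := congrArg (fun x => (u' : W)⁻¹ * x * (u : W)) h
        simp only [mul_assoc, inv_mul_cancel, mul_one, inv_mul_cancel_left] at h3
        exact h3.symm.trans (mul_assoc _ _ _).symm)
      exact Subtype.ext (inv_mul_eq_one.mp h').symm
    have e : ∀ u : V, φ ((u : W) * g * (u : W)⁻¹) a = φ (f u : W) (φ (g : W) a) := fun u => by
      show _ = (φ (f u : W) * φ (g : W)) a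
      rw [← map_mul]
      simp only [f, mul_assoc, inv_mul_cancel, mul_one]
    simp only [e]
    rw [Fintype.prod_bijective f (Finite.injective_iff_bijective.mp hf)
      (fun u => φ (f u : W) (φ (g : W) a)) (fun u => φ (u : W) (φ (g : W) a)) (fun _ => rfl)]
    exact norm_subgroup_mem H V hV _
  rw [mul_mem_cancel_right h2] at h1
  simpa [prod_const, card_univ] using h1

omit [Finite W] in
/-- An elementary abelian subgroup of order `l ^ 2`. -/
theorem pow_mem_of_pair {l : ℕ} (hl : l.Prime) {v w : W} (hv : orderOf v = l) (hw : orderOf w = l)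
    (hc : Commute v w) (hnv : w ∉ zpowers v) (a : A) : a ^ l ∈ T := by
  haveI := Fact.mk hl
  have hvl : v ^ l = 1 := hv ▸ pow_orderOf_eq_one v
  have hwl : w ^ l = 1 := hw ▸ pow_orderOf_eq_one w
  have h1 : ∏ k ∈ range l, ∏ i ∈ range l, φ ((w * v ^ k) ^ i) a ∈ T := by
    refine prod_mem fun k _ => norm_range_mem H ?_ ?_ a
    · rw [(hc.symm.pow_right k).mul_pow, hwl, ← pow_mul, mul_comm, pow_mul, hvl, one_pow, one_mul]
    · intro h
      exact hnv (by rw [eq_inv_of_mul_eq_one_left h]; exact inv_mem (pow_mem (mem_zpowers v) k))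
  rw [prod_comm, ← mul_prod_erase (range l) _ (mem_range.mpr hl.pos)] at h1
  have hV := fun b => norm_range_mem H hvl (fun h => hl.ne_one (by rw [← hv, h, orderOf_one])) b
  have h2 : ∏ i ∈ (range l).erase 0, ∏ k ∈ range l, φ ((w * v ^ k) ^ i) a ∈ T := by
    refine prod_mem fun i hi => ?_
    obtain ⟨hi0, hil⟩ := mem_erase.mp hi
    rw [mem_range] at hil
    have hcop : l.Coprime i := hl.coprime_iff_not_dvd.mpr
      (Nat.not_dvd_of_pos_of_lt (Nat.pos_of_ne_zero hi0) hil)
    have e : ∀ k, φ ((w * v ^ k) ^ i) a = φ (v ^ (k * i % l)) (φ (w ^ i) a) := by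
      intro k
      rw [(hc.symm.pow_right k).mul_pow, ← pow_mul, ((hc.symm.pow_pow i (k * i))).eq,
        map_mul, ← hv, pow_mod_orderOf]
      rfl
    simp only [e]
    rw [prod_bij (fun k _ => k * i % l) (fun k _ => mem_range.mpr (Nat.mod_lt _ hl.pos))
      (fun k hk k' hk' h => ?_) (fun c hc' => ?_) (fun k _ => rfl)
      (g := fun c => φ (v ^ c) (φ (w ^ i) a))]
    · exact hV _
    · have h' : k ≡ k' [MOD l] := Nat.ModEq.cancel_right_of_coprime hcop h
      rw [Nat.ModEq, Nat.mod_eq_of_lt (mem_range.mp hk), Nat.mod_eq_of_lt (mem_range.mp hk')] at h'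
      exact h'
    · obtain ⟨m, -, hm⟩ := Nat.exists_mul_mod_eq_one_of_coprime hcop.symm hl.one_lt
      exact ⟨c * m % l, mem_range.mpr (Nat.mod_lt _ hl.pos), by
        rw [Nat.mod_mul_mod, mul_assoc, mul_comm m i, Nat.mul_mod, hm, mul_one, Nat.mod_mod,
          Nat.mod_eq_of_lt (mem_range.mp hc')]⟩
  rw [mul_mem_cancel_right h2] at h1
  simpa [prod_const] using h1

omit [Finite W] H in
theorem mem_of_pow_mem {a : A} {l : ℕ} (hl : l.Prime) (h : a ^ l ∈ T) (ha : ¬ l ∣ orderOf a) :
    a ∈ T := by
  have hcop : (orderOf a).Coprime l := (hl.coprime_iff_not_dvd.mpr ha).symm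
  obtain ⟨m, hm⟩ := exists_pow_eq_self_of_coprime hcop.symm
  rw [← hm]
  exact pow_mem h m

/-- Such a group has only one prime divisor once some element of `A \ T` is a `q`-element. -/
theorem prime_eq [Finite A] {q r : ℕ} (hq : q.Prime) (hr : r.Prime)
    (hex : ∃ a : A, (∃ j, orderOf a = q ^ j) ∧ a ∉ T)
    (hnon : ∀ l : ℕ, l.Prime → ∃ a : A, ¬ l ∣ orderOf a ∧ a ∉ T)
    (hqW : q ∣ Nat.card W) (hrW : r ∣ Nat.card W) : r = q := by
  classical
  haveI := Fact.mk hq
  haveI := Fact.mk hr
  haveI := Fintype.ofFinite W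
  by_contra hne
  obtain ⟨w, hw⟩ := exists_prime_orderOf_dvd_card' q hqW
  obtain ⟨z, hz⟩ := exists_prime_orderOf_dvd_card' r hrW
  have hne1 : ∀ {g : W} {l : ℕ}, l.Prime → orderOf g = l → g ≠ 1 := by
    intro g l hl hg h; exact hl.ne_one (by rw [← hg, h, orderOf_one])
  have hcomm : ∀ (u g : W) (k : ℕ), orderOf u = q → orderOf g = k → k.Prime → k ≠ q →
      Commute u g → False := fun u g k hu hg hk hkq hc =>
    comm_false H (e := 1) hq hex (by rw [pow_one, ← hu, pow_orderOf_eq_one]) (hne1 hq hu)
      (by rw [← hg, pow_orderOf_eq_one]) (hne1 hk hg) ((Nat.coprime_primes hk hq).mpr hkq) hc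
  by_cases h2 : 2 ∣ Nat.card W
  · haveI := Fact.mk Nat.prime_two
    obtain ⟨c, hc⟩ := exists_prime_orderOf_dvd_card' 2 h2
    have hinv : ∀ i : W, orderOf i = 2 → ∀ a, a * φ i a ∈ T := by
      intro i hi a
      have := norm_range_mem H (w := i) (n := 2) (by rw [← hi, pow_orderOf_eq_one]) (hne1 Nat.prime_two hi) a
      simpa [prod_range_succ] using this
    have huniq : ∀ i j : W, orderOf i = 2 → orderOf j = 2 → i = j := by
      intro i j hi hj
      by_contra hij
      have hy : ∀ a, φ (i * j) a * a⁻¹ ∈ T := by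
        intro a
        have e : φ (i * j) a = φ i (a⁻¹ * (a * φ j a)) := by rw [inv_mul_cancel_left, map_mul]; rfl
        rw [e, map_mul, map_inv, H.fix i _ (hinv j hj a)]
        have := mul_mem (inv_mem (hinv i hi a)) (hinv j hj a)
        convert this using 1
        rw [mul_inv, mul_comm a⁻¹ (φ i a)⁻¹]
        exact mul_right_comm _ _ _
      have hpow : ∀ n : ℕ, ∀ a, φ ((i * j) ^ n) a * a⁻¹ ∈ T := by
        intro n
        induction n with
        | zero => intro a; simp
        | succ n ih =>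
          intro a
          have := mul_mem (ih (φ (i * j) a)) (hy a)
          rw [mul_assoc, inv_mul_cancel_left] at this
          rwa [pow_succ, map_mul]
      have hy1 : i * j ≠ 1 := fun h => hij (by
        rw [mul_eq_one_iff_eq_inv] at h
        rw [h, inv_eq_iff_mul_eq_one, ← sq, ← hj, pow_orderOf_eq_one])
      obtain ⟨l, hl, hld⟩ := Nat.exists_prime_and_dvd (fun h => hy1 (orderOf_eq_one_iff.mp h))
      set y := (i * j) ^ (orderOf (i * j) / l) with hy'
      have hyo : orderOf y = l := orderOf_pow_orderOf_div (orderOf_pos _).ne' hld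
      obtain ⟨a, hal, haT⟩ := hnon l hl
      set t := φ y a * a⁻¹ with ht
      have htT : t ∈ T := hpow _ a
      have hp : ∀ n : ℕ, φ (y ^ n) a = t ^ n * a := by
        intro n
        induction n with
        | zero => simp
        | succ n ih =>
          rw [pow_succ', map_mul]
          show φ y (φ (y ^ n) a) = _
          rw [ih, map_mul, map_pow, H.fix y t htT, pow_succ, mul_assoc]
          congr 1
          rw [ht, inv_mul_cancel_right]
      have h1 : t ^ l = 1 := by
        have := hp l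
        rw [← hyo, pow_orderOf_eq_one, map_one] at this
        rw [← hyo]
        exact mul_eq_right.mp this.symm
      have h2 : t ^ orderOf a = 1 := by
        rw [ht, mul_pow, inv_pow, ← map_pow, pow_orderOf_eq_one, map_one, inv_one, mul_one]
      have ht1 := eq_one_of_coprime_pows h1 h2 (hl.coprime_iff_not_dvd.mpr hal)
      rcases H.free y a (by rw [ht] at ht1; exact mul_inv_eq_one.mp ht1) with h | h
      · exact hne1 hl hyo h
      · exact haT h
    have hcent : ∀ g, Commute g c := fun g => by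
      have := huniq (MulAut.conj g c) c (by rw [MulEquiv.orderOf_eq, hc]) hc
      rw [MulAut.conj_apply] at this
      exact mul_inv_eq_iff_eq_mul.mp this
    by_cases hq2 : q = 2
    · exact hcomm c z r (by rw [hc, hq2]) hz hr hne (hcent z).symm
    · exact hcomm w c 2 hw hc Nat.prime_two (Ne.symm hq2) (hcent w)
  · haveI : IsZGroup W := by
      refine ⟨fun l hl P => ?_⟩
      haveI := Fact.mk hl
      rcases eq_or_ne l 2 with rfl | hl2
      · have : Nat.card P = 1 := by
          obtain ⟨n, hn⟩ := P.isPGroup'.exists_card_eq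
          rcases Nat.eq_zero_or_pos n with rfl | hn0
          · simpa using hn
          · exact absurd ((dvd_pow_self 2 hn0.ne').trans (hn ▸ card_subgroup_dvd_card _)) h2
        haveI := (Nat.card_eq_one_iff_unique.mp this).1
        exact isCyclic_of_subsingleton
      · refine PrimeGraphFour.isCyclic_of_no_pair hl hl2 P.isPGroup' fun v _ u _ hv hu hc => ?_
        by_contra hnv
        obtain ⟨a, hal, haT⟩ := hnon l hl
        exact haT (mem_of_pow_mem hl (pow_mem_of_pair H hl hv hu hc hnv a) hal)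
    by_cases hab : commutator W = ⊥
    · exact hcomm w z r hw hz hr hne
        (commutatorElement_eq_one_iff_commute.mp (by
          have : ⁅w, z⁆ ∈ commutator W := commutator_mem_commutator (mem_top w) (mem_top z)
          rwa [hab, mem_bot] at this))
    haveI := IsZGroup.isCyclic_commutator (G := W)
    obtain ⟨l, hl, hld⟩ := Nat.exists_prime_and_dvd
      (fun h => hab (card_eq_one.mp h) : Nat.card (commutator W) ≠ 1)
    haveI := Fact.mk hl
    obtain ⟨v, hv⟩ := exists_prime_orderOf_dvd_card' l hld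
    have hvW : orderOf (v : W) = l := by rw [orderOf_coe, hv]
    have hnorm : ∀ g : W, ∀ u ∈ zpowers (v : W), g * u * g⁻¹ ∈ zpowers (v : W) := by
      intro g u hu
      obtain ⟨n, rfl⟩ := mem_zpowers_iff.mp hu
      obtain ⟨m, hm⟩ := MonoidHom.map_cyclic
        ((MulAut.conjNormal g : MulAut (commutator W)).toMonoidHom)
      have := congrArg Subtype.val (hm v)
      simp only [MulEquiv.toMonoidHom_eq_coe, MonoidHom.coe_coe, MulAut.conjNormal_apply,
        SubgroupClass.coe_zpow] at this
      rw [← conj_zpow, this, ← zpow_mul]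
      exact zpow_mem (mem_zpowers _) _
    have frob : ∀ g : W, (orderOf g).Prime → ¬ Commute g (v : W) → False := by
      intro g hg hnc
      haveI := Fact.mk hg
      obtain ⟨a, hal, haT⟩ := hnon l hl
      refine haT (mem_of_pow_mem hl ?_ hal)
      have := pow_card_mem_of_frobenius H (zpowers (v : W)) (zpowers g)
        (by rw [Ne, zpowers_eq_bot]; exact hne1 hl hvW)
        (by rw [Ne, zpowers_eq_bot]; exact hne1 hg rfl)
        (fun x _ u hu => hnorm x u hu) ?_ a
      · rwa [← Nat.card_eq_fintype_card, Nat.card_zpowers, hvW] at this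
      intro x hx hx1 u hu hxu
      by_contra hu1
      apply hnc
      obtain ⟨i, hi⟩ := mem_zpowers_iff.mp (mem_zpowers_of_prime_card (p := orderOf g)
        (G := zpowers g) (Nat.card_zpowers g) (g := ⟨x, hx⟩)
        (fun h => hx1 (congrArg Subtype.val h)) (g' := ⟨g, mem_zpowers g⟩))
      obtain ⟨k, hk⟩ := mem_zpowers_iff.mp (mem_zpowers_of_prime_card (p := l)
        (G := zpowers (v : W)) ((Nat.card_zpowers _).trans hvW) (g := ⟨u, hu⟩)
        (fun h => hu1 (congrArg Subtype.val h)) (g' := ⟨(v : W), mem_zpowers _⟩))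
      have hi' : x ^ i = g := by simpa using congrArg Subtype.val hi
      have hk' : u ^ k = (v : W) := by simpa using congrArg Subtype.val hk
      rw [← hi', ← hk']
      exact (show Commute x u from hxu).zpow_zpow i k
    by_cases hlq : l = q
    · subst hlq
      by_cases hzc : Commute z (v : W)
      · exact hcomm v z r hvW hz hr hne hzc.symm
      · exact frob z (hz ▸ hr) hzc
    · by_cases hwc : Commute w (v : W)
      · exact hcomm w v l hw hvW hl hlq hwc
      · exact frob w (hw ▸ hq) hwc

end Cfsg.Agent.Lib.RegularClasses
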