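import Cfsg.Agent.Lib.RegularClasses.Semireg
import Cfsg.Agent.Lib.Characters.Kazarin
import Cfsg.Agent.Lib.Cores.PCore
import Cfsg.Agent.Lib.OrderCounts.TwoPrimes
import Mathlib

/-!
Groups in which the noncentral `p`-regular classes have equal size.
-/

set_option autoImplicit false

namespace Cfsg.Agent.Lib.RegularClasses

open Subgroup
open scoped commutatorElement IsMulCommutative

variable {G : Type*} [Group G]

local notation "C[" x "]" => Subgroup.centralizer ({x} : Set _)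

/-- `x` is `p`-regular. -/
abbrev Reg (p : ℕ) (x : G) : Prop := (orderOf x).Coprime p

/-- All noncentral `p`-regular classes have size `m`. -/
def EqSizes (G : Type*) [Group G] (p m : ℕ) : Prop :=
  ∀ x : G, Reg p x → x ∉ center G → (centralizer ({x} : Set G)).index = m

theorem mem_C {x g : G} : g ∈ C[x] ↔ g * x = x * g := mem_centralizer_singleton_iff

theorem self_mem_C (x : G) : x ∈ C[x] := mem_C.mpr rfl

theorem center_le_C (x : G) : center G ≤ C[x] := fun g hg =>
  mem_C.mpr (mem_center_iff.mp hg x).symm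

theorem eq_one_of_two_pows {t : G} {m n : ℕ} (hm : t ^ m = 1) (hn : t ^ n = 1) (h : m.Coprime n) :
    t = 1 :=
  eq_one_of_coprime_pows hm hn h

theorem conj_mem_C {x g h : G} (hh : h ∈ C[x]) : g * h * g⁻¹ ∈ C[g * x * g⁻¹] := by
  rw [mem_C] at hh ⊢
  simp only [mul_assoc, inv_mul_cancel_left]
  rw [← mul_assoc h x, hh, mul_assoc]

theorem reg_conj {p : ℕ} {x : G} (hx : Reg p x) (g : G) : Reg p (g * x * g⁻¹) := by
  show (orderOf (g * x * g⁻¹)).Coprime p
  rwa [← MulAut.conj_apply, MulEquiv.orderOf_eq]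

theorem not_central_conj {x : G} (hx : x ∉ center G) (g : G) : g * x * g⁻¹ ∉ center G := fun h => hx (by
  have e : g * x = g * (g⁻¹ * (g * x * g⁻¹) * g) := by group
  rw [mul_assoc g⁻¹, ← mem_center_iff.mp h g, inv_mul_cancel_left] at e
  rwa [mul_left_cancel e])

variable [Finite G]

theorem reg_of_prime_pow {p q j : ℕ} (hp : p.Prime) (hq : q.Prime) (hqp : q ≠ p) {x : G}
    (h : x ^ q ^ j = 1) : Reg p x :=
  Nat.Coprime.coprime_dvd_left (orderOf_dvd_of_pow_eq_one h)
    (Nat.Coprime.pow_left j ((Nat.coprime_primes hq hp).mpr hqp))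

theorem exists_orderOf_eq {q : ℕ} (hq : q.Prime) {x : G} (h : ∃ j, x ^ q ^ j = 1) :
    ∃ j, orderOf x = q ^ j := by
  obtain ⟨j, hj⟩ := h
  obtain ⟨i, -, hi⟩ := (Nat.dvd_prime_pow hq).mp (orderOf_dvd_of_pow_eq_one hj)
  exact ⟨i, hi⟩

omit [Finite G] in
theorem mem_of_pow_pow (H : Subgroup G) {x : G} {a b : ℕ} (ha : x ^ a ∈ H) (hb : x ^ b ∈ H)
    (h : a.Coprime b) : x ∈ H := by
  have e := Nat.gcd_eq_gcd_ab a b
  rw [h.gcd_eq_one, Nat.cast_one] at e
  rw [← zpow_one x, e, zpow_add, zpow_mul, zpow_mul, zpow_natCast, zpow_natCast]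
  exact mul_mem (Subgroup.zpow_mem H ha _) (Subgroup.zpow_mem H hb _)

omit [Finite G] in
theorem mem_of_mul_mem (H : Subgroup G) {x y : G} (hc : Commute x y)
    (hcop : (orderOf x).Coprime (orderOf y)) (h : x * y ∈ H) : x ∈ H := by
  obtain ⟨k, hk⟩ := exists_pow_eq_self_of_coprime hcop.symm
  rw [← hk, show x ^ orderOf y = (x * y) ^ orderOf y by
    rw [hc.mul_pow, pow_orderOf_eq_one, mul_one]]
  exact pow_mem (pow_mem h _) _

theorem exists_primary_noncentral {p : ℕ} (hp : p.Prime) {x : G} (hx : Reg p x) (hxc : x ∉ center G) :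
    ∃ (q : ℕ) (y : G), q.Prime ∧ q ≠ p ∧ (∃ j, y ^ q ^ j = 1) ∧ y ∈ zpowers x ∧ y ∉ center G := by
  set d := orderOf (QuotientGroup.mk' (center G) x)
  have hd1 : d ≠ 1 := fun h => hxc ((QuotientGroup.eq_one_iff x).mp (orderOf_eq_one_iff.mp h))
  obtain ⟨q, hq, hqd⟩ := Nat.exists_prime_and_dvd hd1
  have hdn : d ∣ orderOf x := orderOf_map_dvd _ x
  have hn0 := (orderOf_pos x).ne'
  refine ⟨q, x ^ (orderOf x / q ^ (orderOf x).factorization q), hq, ?_, ⟨(orderOf x).factorization q, ?_⟩,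
    pow_mem (mem_zpowers x) _, fun h => ?_⟩
  · rintro rfl
    exact hp.coprime_iff_not_dvd.mp hx.symm (hqd.trans hdn)
  · rw [← pow_mul, Nat.div_mul_cancel (Nat.ordProj_dvd _ _), pow_orderOf_eq_one]
  · exact Nat.not_dvd_ordCompl hq hn0 (hqd.trans (orderOf_dvd_of_pow_eq_one (by
      rw [← map_pow]; exact (QuotientGroup.eq_one_iff _).mpr h)))

/-- The `s`-elements of an abelian subgroup. -/
def sPart (K : Subgroup G) (hK : ∀ a ∈ K, ∀ b ∈ K, Commute a b) (s : ℕ) : Subgroup G where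
  carrier := {g | g ∈ K ∧ ∃ k, g ^ s ^ k = 1}
  one_mem' := ⟨one_mem K, 0, one_pow _⟩
  mul_mem' := by
    rintro a b ⟨ha, i, hi⟩ ⟨hb, j, hj⟩
    refine ⟨mul_mem ha hb, i + j, ?_⟩
    rw [(hK a ha b hb).mul_pow, pow_add, pow_mul, hi, one_pow, one_mul, mul_comm, pow_mul, hj, one_pow]
  inv_mem' := by
    rintro a ⟨ha, i, hi⟩
    exact ⟨inv_mem ha, i, by rw [inv_pow, hi, inv_one]⟩

theorem sPart_isPGroup (K : Subgroup G) (hK : ∀ a ∈ K, ∀ b ∈ K, Commute a b) (s : ℕ) :
    IsPGroup s (sPart K hK s) := fun g => by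
  obtain ⟨-, k, hk⟩ := g.2
  exact ⟨k, Subtype.ext (by simpa using hk)⟩

theorem le_of_coprime_index {s : ℕ} (hs : s.Prime) {H : Subgroup G} [H.Normal] (h : ¬ s ∣ H.index)
    {P : Subgroup G} (hP : IsPGroup s P) : P ≤ H := by
  intro g hg
  obtain ⟨k, hk⟩ := hP ⟨g, hg⟩
  have hk' : g ^ s ^ k = 1 := by simpa using congrArg Subtype.val hk
  have h1 : (QuotientGroup.mk' H g) ^ s ^ k = 1 := by rw [← map_pow, hk', map_one]
  have h2 : (QuotientGroup.mk' H g) ^ H.index = 1 := pow_card_eq_one'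
  exact (QuotientGroup.eq_one_iff g).mp
    (eq_one_of_two_pows h1 h2 (Nat.Coprime.pow_left k (hs.coprime_iff_not_dvd.mpr h)))

omit [Finite G] in
theorem center_comm : ∀ a ∈ center G, ∀ b ∈ center G, Commute a b :=
  fun a _ b hb => mem_center_iff.mp hb a

variable {p m : ℕ}

theorem eq_of_le (h : EqSizes G p m) {x y : G} (hx : Reg p x) (hxc : x ∉ center G) (hy : Reg p y)
    (hyc : y ∉ center G) (hle : C[x] ≤ C[y]) : C[x] = C[y] := by
  refine eq_of_le_of_card_ge hle (le_of_eq ?_)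
  have h1 := card_mul_index C[x]
  rw [h x hx hxc, ← card_mul_index C[y], h y hy hyc] at h1
  exact (Nat.eq_of_mul_eq_mul_right (Nat.pos_of_ne_zero (h y hy hyc ▸ index_ne_zero_of_finite)) h1).symm

theorem C_le_C_of_commute (h : EqSizes G p m) {x y : G} (hx : Reg p x) (hxc : x ∉ center G)
    (hy : Reg p y) (hc : Commute x y) (hcop : (orderOf x).Coprime (orderOf y)) : C[x] ≤ C[y] := by
  have hz : Reg p (x * y) := by
    show (orderOf (x * y)).Coprime p
    rw [hc.orderOf_mul_eq_mul_orderOf_of_coprime hcop]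
    exact Nat.Coprime.mul_left hx hy
  have hzc : x * y ∉ center G := fun h' => hxc (mem_of_mul_mem _ hc hcop h')
  have key : ∀ {a b : G}, Commute a b → (orderOf a).Coprime (orderOf b) → C[a * b] ≤ C[a] := by
    intro a b hab hco g hg
    have hg' : a * b ∈ C[g] := mem_C.mpr (mem_C.mp hg).symm
    exact mem_C.mpr (mem_C.mp (mem_of_mul_mem _ hab hco hg')).symm
  rw [← eq_of_le h hz hzc hx hxc (key hc hcop), hc.eq]
  exact key hc.symm hcop.symm

theorem exists_noncentral_sElement (hp : p.Prime) (h : EqSizes G p m) {x : G} (hx : Reg p x)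
    (hxc : x ∉ center G) {s : ℕ} (hs : s.Prime) (hsp : s ≠ p) {z : G} (hz : ∃ k, z ^ s ^ k = 1)
    (hzc : z ∉ center G) : ∃ g ∈ C[x], (∃ k, g ^ s ^ k = 1) ∧ g ∉ center G := by
  by_contra hno
  push Not at hno
  haveI := Fact.mk hs
  obtain ⟨k, hk⟩ := hz
  set Z := sPart (center G) center_comm s
  haveI : Z.Normal := ⟨fun a ha g => by
    rwa [mem_center_iff.mp ha.1 g, mul_inv_cancel_right]⟩
  set K := Z ⊔ zpowers z
  have hK : IsPGroup s K := (sPart_isPGroup _ center_comm s).to_sup_of_normal_left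
    (IsPGroup.of_card (n := (exists_orderOf_eq hs ⟨k, hk⟩).choose) (by
      rw [Nat.card_zpowers]; exact (exists_orderOf_eq hs ⟨k, hk⟩).choose_spec))
  obtain ⟨b, hb⟩ := hK.exists_card_eq
  have hKC : K ≤ C[z] := sup_le (fun a ha => center_le_C z ha.1) (zpowers_le.mpr (self_mem_C z))
  have hdvd : s ^ b ∣ Nat.card C[x] := by
    rw [← hb]
    have h1 := card_mul_index C[x]
    rw [h x hx hxc, ← card_mul_index C[z], h z (reg_of_prime_pow hp hs hsp hk) hzc] at h1
    rw [Nat.eq_of_mul_eq_mul_right (Nat.pos_of_ne_zero (h x hx hxc ▸ index_ne_zero_of_finite)) h1]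
    exact card_dvd_of_le hKC
  obtain ⟨D, hD⟩ := Sylow.exists_subgroup_card_pow_prime s hdvd
  have hDZ : D.map C[x].subtype ≤ Z := by
    rintro _ ⟨d, hd, rfl⟩
    have h1 : (d : G) ^ s ^ b = 1 := by
      have := congrArg Subtype.val (pow_card_eq_one' (x := (⟨d, hd⟩ : D)))
      rw [hD] at this
      simpa using congrArg Subtype.val this
    exact ⟨hno _ d.2 ⟨b, h1⟩, b, h1⟩
  have h2 := card_le_of_le hDZ
  rw [card_map_of_injective C[x].subtype_injective, hD, ← hb] at h2
  have h3 : z ∈ Z := by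
    rw [eq_of_le_of_card_ge (le_sup_left : Z ≤ K) h2]
    exact mem_sup_right (mem_zpowers z)
  exact hzc h3.1

/-- All primary elements for the primes other than `p` and `q` are central. -/
theorem direct_of_central {q : ℕ} [Fact q.Prime] (hp : p.Prime) (hqp : q ≠ p)
    (hcen : ∀ s : ℕ, s.Prime → s ≠ p → s ≠ q → ∀ g : G, (∃ k, g ^ s ^ k = 1) → g ∈ center G) :
    ∃ (q : ℕ) (_ : Fact q.Prime) (P : Sylow p G) (Q : Sylow q G) (A : Subgroup G), q ≠ p ∧
        A ≤ Subgroup.center G ∧ Nat.card ↥((P : Subgroup G) ⊔ (Q : Subgroup G)) = Nat.card P * Nat.card Q ∧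
        ((P : Subgroup G) ⊔ (Q : Subgroup G)).Normal ∧
        ((P : Subgroup G) ⊔ (Q : Subgroup G)) ⊓ A = ⊥ ∧ ((P : Subgroup G) ⊔ (Q : Subgroup G)) ⊔ A = ⊤ := by
  haveI := Fact.mk hp
  have hq : q.Prime := Fact.out
  let A : Subgroup G :=
    { carrier := {g | g ∈ center G ∧ (orderOf g).Coprime (p * q)}
      one_mem' := ⟨one_mem _, by rw [orderOf_one]; exact Nat.coprime_one_left _⟩
      mul_mem' := by
        rintro a b ⟨ha, ha'⟩ ⟨hb, hb'⟩
        exact ⟨mul_mem ha hb, Nat.Coprime.coprime_dvd_left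
          (center_comm a ha b hb).orderOf_mul_dvd_mul_orderOf (Nat.Coprime.mul_left ha' hb')⟩
      inv_mem' := by
        rintro a ⟨ha, ha'⟩
        exact ⟨inv_mem ha, by rwa [orderOf_inv]⟩ }
  have hAc : A ≤ center G := fun g hg => hg.1
  haveI hAn : A.Normal := ⟨fun a ha g => by rwa [mem_center_iff.mp (hAc ha) g, mul_inv_cancel_right]⟩
  have hsmall : ∀ s : ℕ, s.Prime → s ∣ Nat.card A → s ≠ p ∧ s ≠ q := by
    intro s hs hd
    haveI := Fact.mk hs
    obtain ⟨a, ha⟩ := exists_prime_orderOf_dvd_card' s hd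
    have h1 := a.2.2
    rw [orderOf_coe, ha] at h1
    exact ⟨fun e => hs.coprime_iff_not_dvd.mp h1 (e ▸ dvd_mul_right p q),
      fun e => hs.coprime_iff_not_dvd.mp h1 (e ▸ dvd_mul_left q p)⟩
  have hindex : ∀ s : ℕ, s.Prime → s ∣ A.index → s = p ∨ s = q := by
    intro s hs hd
    by_contra hne
    push Not at hne
    haveI := Fact.mk hs
    obtain ⟨S⟩ := (inferInstance : Nonempty (Sylow s G))
    refine S.not_dvd_index (hd.trans (index_dvd_of_le fun g hg => ?_))
    obtain ⟨k, hk⟩ := S.isPGroup' ⟨g, hg⟩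
    have hk' : g ^ s ^ k = 1 := by simpa using congrArg Subtype.val hk
    exact ⟨hcen s hs hne.1 hne.2 g ⟨k, hk'⟩, Nat.Coprime.coprime_dvd_left (orderOf_dvd_of_pow_eq_one hk')
      (Nat.Coprime.pow_left k (hs.coprime_iff_not_dvd.mpr fun e => by
        rcases (Nat.Prime.dvd_mul hs).mp e with e | e
        · exact hne.1 ((Nat.prime_dvd_prime_iff_eq hs hp).mp e)
        · exact hne.2 ((Nat.prime_dvd_prime_iff_eq hs hq).mp e)))⟩
  have hcop : (Nat.card A).Coprime A.index := Nat.coprime_of_dvd fun s hs h1 h2 => by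
    rcases hindex s hs h2 with e | e
    · exact (hsmall s hs h1).1 e
    · exact (hsmall s hs h1).2 e
  obtain ⟨B, hB⟩ := exists_right_complement'_of_coprime hcop
  haveI hBn : B.Normal := by
    refine ⟨fun b hb g => ?_⟩
    have hg : g ∈ A ⊔ B := hB.sup_eq_top ▸ mem_top g
    obtain ⟨a, ha, c, hc, rfl⟩ := mem_sup_of_normal_left.mp hg
    rw [show a * c * b * (a * c)⁻¹ = a * (c * b * c⁻¹) * a⁻¹ by group,
      (mem_center_iff.mp (hAc ha) (c * b * c⁻¹)).symm, mul_inv_cancel_right]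
    exact mul_mem (mul_mem hc hb) (inv_mem hc)
  have hBi : B.index = Nat.card A := hB.index_eq_card
  obtain ⟨P⟩ := (inferInstance : Nonempty (Sylow p G))
  obtain ⟨Q⟩ := (inferInstance : Nonempty (Sylow q G))
  have hPB : (P : Subgroup G) ≤ B := le_of_coprime_index hp
    (fun e => (hsmall p hp (hBi ▸ e)).1 rfl) P.isPGroup'
  have hQB : (Q : Subgroup G) ≤ B := le_of_coprime_index hq
    (fun e => (hsmall q hq (hBi ▸ e)).2 rfl) Q.isPGroup'
  have hBA : Nat.card B = A.index := (hB.symm.index_eq_card).symm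
  have hPQ : (Nat.card P).Coprime (Nat.card Q) := by
    rw [P.card_eq_multiplicity, Q.card_eq_multiplicity]
    exact Nat.Coprime.pow _ _ ((Nat.coprime_primes hp hq).mpr hqp.symm)
  have hge : Nat.card P * Nat.card Q ∣ Nat.card ↥((P : Subgroup G) ⊔ (Q : Subgroup G)) :=
    hPQ.mul_dvd_of_dvd_of_dvd (card_dvd_of_le le_sup_left) (card_dvd_of_le le_sup_right)
  have hle : Nat.card B ∣ Nat.card P * Nat.card Q := by
    refine (Nat.dvd_iff_prime_pow_dvd_dvd _ _).mpr fun s k hs hk => ?_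
    rcases Nat.eq_zero_or_pos k with rfl | hk0
    · simp
    have hkG : s ^ k ∣ Nat.card G := hk.trans B.card_subgroup_dvd_card
    rcases hindex s hs (hBA ▸ (dvd_pow_self s hk0.ne').trans hk) with rfl | rfl
    · refine Dvd.dvd.mul_right ?_ _
      rw [P.card_eq_multiplicity]
      exact pow_dvd_pow _ ((hs.pow_dvd_iff_le_factorization Nat.card_pos.ne').mp hkG)
    · refine Dvd.dvd.mul_left ?_ _
      rw [Q.card_eq_multiplicity]
      exact pow_dvd_pow _ ((hs.pow_dvd_iff_le_factorization Nat.card_pos.ne').mp hkG)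
  have heq : (P : Subgroup G) ⊔ (Q : Subgroup G) = B :=
    eq_of_le_of_card_ge (sup_le hPB hQB) (Nat.le_of_dvd Nat.card_pos (hle.trans hge))
  refine ⟨q, inferInstance, P, Q, A, hqp, hAc, ?_, heq ▸ hBn, ?_, ?_⟩
  · exact Nat.dvd_antisymm (heq ▸ hle) hge
  · rw [heq, inf_comm]; exact hB.disjoint.eq_bot
  · rw [heq, sup_comm]; exact hB.sup_eq_top

variable (hp : p.Prime) (h : EqSizes G p m)
include hp h

/-- First case: some noncentral primary element has a noncentral `p`-regular element in its centraliser. -/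
theorem central_outside {q : ℕ} (hq : q.Prime) {x : G} (hx : Reg p x) (hxq : ∃ j, x ^ q ^ j = 1)
    (hxc : x ∉ center G) {u : G} (hu : Reg p u) (hux : u ∈ C[x]) {w : G} (hw : w ∈ C[x])
    (hwu : ¬ Commute w u) :
    ∀ s : ℕ, s.Prime → s ≠ p → s ≠ q → ∀ g : G, (∃ k, g ^ s ^ k = 1) → g ∈ center G := by
  obtain ⟨i, hi⟩ := hxq
  have step : ∀ y : G, Reg p y → ¬ q ∣ orderOf y → y ∈ C[x] → C[x] ≤ C[y] := fun y hy hqy hyx =>
    C_le_C_of_commute h hx hxc hy (mem_C.mp hyx).symm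
      (Nat.Coprime.coprime_dvd_left (orderOf_dvd_of_pow_eq_one hi)
        (Nat.Coprime.pow_left i (hq.coprime_iff_not_dvd.mpr hqy)))
  set n := orderOf u with hn
  have hn0 := (orderOf_pos u).ne'
  set u1 := u ^ (n / q ^ n.factorization q) with hu1d
  have hu1q : u1 ^ q ^ n.factorization q = 1 := by
    rw [hu1d, ← pow_mul, Nat.div_mul_cancel (Nat.ordProj_dvd _ _), pow_orderOf_eq_one]
  have hu1x : u1 ∈ C[x] := pow_mem hux _
  have hu1R : Reg p u1 := Nat.Coprime.coprime_dvd_left (orderOf_pow_dvd _) hu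
  have hu1w : ¬ Commute w u1 := by
    intro hc
    refine hwu ?_
    have h2 : u ^ q ^ n.factorization q ∈ C[w] := by
      have hy : ¬ q ∣ orderOf (u ^ q ^ n.factorization q) := fun hd => by
        have : orderOf (u ^ q ^ n.factorization q) ∣ n / q ^ n.factorization q := by
          rw [orderOf_pow' _ (pow_ne_zero _ hq.ne_zero), Nat.gcd_eq_right (Nat.ordProj_dvd _ _)]
        exact Nat.not_dvd_ordCompl hq hn0 (hd.trans this)
      exact mem_C.mpr (mem_C.mp (step _ (Nat.Coprime.coprime_dvd_left (orderOf_pow_dvd _) hu) hy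
        (pow_mem hux _) hw)).symm
    exact (mem_C.mp (mem_of_pow_pow C[w] (mem_C.mpr hc.eq.symm) h2
      ((Nat.coprime_ordCompl hq hn0).symm.pow_right _))).symm
  have hu1c : u1 ∉ center G := fun hc => hu1w (mem_center_iff.mp hc w)
  intro s hs hsp hsq g hg
  by_contra hgc
  obtain ⟨z, hzx, ⟨j, hz⟩, hzc⟩ := exists_noncentral_sElement hp h hx hxc hs hsp hg hgc
  have hzR := reg_of_prime_pow hp hs hsp hz
  have hcop : (orderOf z).Coprime (orderOf u1) :=
    Nat.Coprime.coprime_dvd_left (orderOf_dvd_of_pow_eq_one hz)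
      (Nat.Coprime.coprime_dvd_right (orderOf_dvd_of_pow_eq_one hu1q)
        (Nat.Coprime.pow _ _ ((Nat.coprime_primes hs hq).mpr hsq)))
  have hzq : ¬ q ∣ orderOf z := fun hd => hsq ((Nat.prime_dvd_prime_iff_eq hq hs).mp
    (hq.dvd_of_dvd_pow (hd.trans (orderOf_dvd_of_pow_eq_one hz)))).symm
  have hle := step z hzR hzq hzx
  have hle2 := C_le_C_of_commute h hzR hzc hu1R (mem_C.mp (hle hu1x)).symm hcop
  exact hu1w (mem_C.mp (hle2 (hle hw)))

omit hp h in
/-- The `p`-regular elements of a centraliser, when they are central in it. -/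
def regPart (hk : ∀ x : G, Reg p x → x ∉ center G → ∀ g ∈ C[x], Reg p g → C[x] ≤ C[g])
    {x : G} (hx : Reg p x) (hxc : x ∉ center G) : Subgroup G where
  carrier := {g | g ∈ C[x] ∧ Reg p g}
  one_mem' := ⟨one_mem _, by rw [Reg, orderOf_one]; exact Nat.coprime_one_left _⟩
  mul_mem' := by
    rintro a b ⟨ha, ha'⟩ ⟨hb, hb'⟩
    exact ⟨mul_mem ha hb, Nat.Coprime.coprime_dvd_left
      (show Commute a b from mem_C.mp (hk x hx hxc b hb hb' ha)).orderOf_mul_dvd_mul_orderOf
      (Nat.Coprime.mul_left ha' hb')⟩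
  inv_mem' := by
    rintro a ⟨ha, ha'⟩
    exact ⟨inv_mem ha, by rwa [Reg, orderOf_inv]⟩

variable (hk : ∀ x : G, Reg p x → x ∉ center G → ∀ g ∈ C[x], Reg p g → C[x] ≤ C[g])
include hk

omit hp h in
theorem regPart_comm {x : G} (hx : Reg p x) (hxc : x ∉ center G) :
    ∀ a ∈ regPart hk hx hxc, ∀ b ∈ regPart hk hx hxc, Commute a b :=
  fun _ ha _ hb => mem_C.mp (hk x hx hxc _ hb.1 hb.2 ha.1)

omit hp in
theorem C_eq {x : G} (hx : Reg p x) (hxc : x ∉ center G) {a : G} (ha : a ∈ regPart hk hx hxc)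
    (hac : a ∉ center G) : C[a] = C[x] :=
  (eq_of_le h hx hxc ha.2 hac (hk x hx hxc a ha.1 ha.2)).symm

omit hp in
theorem mem_normalizer_of_conj {x : G} (hx : Reg p x) (hxc : x ∉ center G) {g : G} {a : G}
    (ha : a ∈ regPart hk hx hxc) (hac : a ∉ center G) (hga : g * a * g⁻¹ ∈ regPart hk hx hxc) :
    g ∈ normalizer (regPart hk hx hxc : Set G) := by
  have h1 := C_eq h hk hx hxc hga (not_central_conj hac g)
  have h2 := C_eq h hk hx hxc ha hac
  refine mem_normalizer_fintype ?_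
  rintro b ⟨hb, hb'⟩
  refine ⟨?_, reg_conj hb' g⟩
  have h3 := conj_mem_C (g := g) (h2.symm ▸ hb : b ∈ C[a])
  rwa [h1] at h3

omit hp h in
theorem C_le_normalizer {x : G} (hx : Reg p x) (hxc : x ∉ center G) :
    C[x] ≤ normalizer (regPart hk hx hxc : Set G) := fun g hg => by
  refine mem_normalizer_fintype ?_
  rintro b ⟨hb, hb'⟩
  rw [(mem_C.mp (hk x hx hxc b hb hb' hg)), mul_inv_cancel_right]
  exact ⟨hb, hb'⟩

omit hp h hk in
/-- A Sylow subgroup of `G` lies in each centraliser of full `s`-part. -/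
theorem exists_sylow_le {s : ℕ} [hs : Fact s.Prime] {H : Subgroup G} (hH : ¬ s ∣ H.index) :
    ∃ S : Sylow s G, (S : Subgroup G) ≤ H := by
  obtain ⟨S0⟩ := (inferInstance : Nonempty (Sylow s H))
  have hS : IsPGroup s ((S0 : Subgroup H).map H.subtype) := S0.isPGroup'.map _
  refine ⟨hS.toSylow ?_, map_subtype_le _⟩
  rw [index_map_subtype, hs.out.dvd_mul]
  exact not_or.mpr ⟨S0.not_dvd_index, hH⟩

omit hp h in
theorem mem_C_of_image_one {x : G} (hx : Reg p x) (hxc : x ∉ center G)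
    (g : normalizer (regPart hk hx hxc : Set G)) :
    (regPart hk hx hxc).normalizerMonoidHom g = 1 ↔ (g : G) ∈ C[x] := by
  constructor
  · intro he
    have hxA : x ∈ regPart hk hx hxc := ⟨self_mem_C x, hx⟩
    have := congrArg (fun f : MulAut _ => ((f ⟨x, hxA⟩ : regPart hk hx hxc) : G)) he
    exact mem_C.mpr (mul_inv_eq_iff_eq_mul.mp this)
  · intro hg
    ext a
    exact mul_inv_eq_iff_eq_mul.mpr (mem_C.mp (hk x hx hxc a a.2.1 a.2.2 hg))

omit hp in
theorem semireg {x : G} (hx : Reg p x) (hxc : x ∉ center G)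
    (hA : IsMulCommutative (regPart hk hx hxc)) :
    SemiregOff (regPart hk hx hxc).normalizerMonoidHom.range.subtype
      ((center G).subgroupOf (regPart hk hx hxc)) := by
  constructor
  · rintro ⟨_, g, rfl⟩ t ht
    exact Subtype.ext (mul_inv_eq_iff_eq_mul.mpr (mem_center_iff.mp ht (g : G)))
  · rintro ⟨_, g, rfl⟩ a hga
    by_cases hac : (a : G) ∈ center G
    · exact Or.inr hac
    refine Or.inl (Subtype.ext ((mem_C_of_image_one hk hx hxc g).mpr ?_))
    rw [← C_eq h hk hx hxc a.2 hac]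
    exact mem_C.mpr (mul_inv_eq_iff_eq_mul.mp (congrArg Subtype.val hga))

/-- Only the prime `q` acts on the regular part of a member normalised by a full Sylow `q`-subgroup. -/
theorem only_q {q : ℕ} [hq : Fact q.Prime] (hqp : q ≠ p) (hqm : q ∣ m) {s : ℕ} (hs : s.Prime)
    (hsp : s ≠ p) (hsq : s ≠ q) {z : G} (hz : ∃ k, z ^ s ^ k = 1) (hzc : z ∉ center G)
    {x : G} (hxq : ∃ j, x ^ q ^ j = 1) (hxc : x ∉ center G) (hx : Reg p x) (Q : Sylow q G)
    (hQ : (Q : Subgroup G) ≤ normalizer (regPart hk hx hxc : Set G))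
    {g : G} (hg : g ∈ normalizer (regPart hk hx hxc : Set G)) {r : ℕ} (hr : r.Prime)
    (hgr : ∃ k, g ^ r ^ k = 1) (hrq : r ≠ q) : g ∈ C[x] := by
  set A := regPart hk hx hxc
  haveI hA : IsMulCommutative A := ⟨⟨fun a b => Subtype.ext (regPart_comm hk hx hxc a a.2 b b.2).eq⟩⟩
  by_contra hgC
  set φ := A.normalizerMonoidHom
  have himg : ∀ (n : normalizer (A : Set G)) {t : ℕ}, t.Prime → (∃ k, (n : G) ^ t ^ k = 1) →
      (n : G) ∉ C[x] → t ∣ Nat.card φ.range := by
    intro n t ht hn hnC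
    obtain ⟨k, hk'⟩ := hn
    have h1 : (⟨φ n, n, rfl⟩ : φ.range) ^ t ^ k = 1 := Subtype.ext (by
      show (φ n) ^ t ^ k = 1
      rw [← map_pow, show n ^ t ^ k = 1 from Subtype.ext (by simpa using hk'), map_one])
    obtain ⟨i, -, hi⟩ := (Nat.dvd_prime_pow ht).mp (orderOf_dvd_of_pow_eq_one h1)
    rcases Nat.eq_zero_or_pos i with rfl | hi0
    · exact absurd ((mem_C_of_image_one hk hx hxc n).mp
        (congrArg Subtype.val (orderOf_eq_one_iff.mp (hi.trans (pow_zero t))))) hnC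
    · exact (dvd_pow_self t hi0.ne').trans (hi ▸ orderOf_dvd_natCard _)
  obtain ⟨u, huQ, huC⟩ : ∃ u ∈ (Q : Subgroup G), u ∉ C[x] := by
    by_contra hno
    push Not at hno
    exact Q.not_dvd_index (hqm.trans (h x hx hxc ▸ index_dvd_of_le hno))
  have huq : ∃ k, u ^ q ^ k = 1 := by
    obtain ⟨k, hk'⟩ := Q.isPGroup' ⟨u, huQ⟩
    exact ⟨k, by simpa using congrArg Subtype.val hk'⟩
  refine hrq (prime_eq (semireg h hk hx hxc hA) hq.out hr ?_ ?_
    (himg ⟨u, hQ huQ⟩ hq.out huq huC) (himg ⟨g, hg⟩ hr hgr hgC))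
  · refine ⟨⟨x, self_mem_C x, hx⟩, ?_, hxc⟩
    rw [← Subgroup.orderOf_coe]
    exact exists_orderOf_eq hq.out hxq
  · intro l hl
    rcases eq_or_ne l q with rfl | hlq
    · obtain ⟨a, hax, ⟨k, ha⟩, hac⟩ := exists_noncentral_sElement hp h hx hxc hs hsp hz hzc
      refine ⟨⟨a, hax, reg_of_prime_pow hp hs hsp ha⟩, fun hd => ?_, hac⟩
      rw [← Subgroup.orderOf_coe] at hd
      exact hsq ((Nat.prime_dvd_prime_iff_eq hl hs).mp
        (hl.dvd_of_dvd_pow (hd.trans (orderOf_dvd_of_pow_eq_one ha)))).symm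
    · refine ⟨⟨x, self_mem_C x, hx⟩, fun hd => ?_, hxc⟩
      rw [← Subgroup.orderOf_coe] at hd
      obtain ⟨j, hj⟩ := hxq
      exact hlq ((Nat.prime_dvd_prime_iff_eq hl hq.out).mp
        (hl.dvd_of_dvd_pow (hd.trans (orderOf_dvd_of_pow_eq_one hj))))

/-- The second case is impossible when two primes other than `p` are involved. -/
theorem no_two_primes {q : ℕ} [hq : Fact q.Prime] (hqp : q ≠ p) (hqm : q ∣ m)
    {s : ℕ} (hs : s.Prime) (hsp : s ≠ p) (hsq : s ≠ q) {z : G} (hz : ∃ k, z ^ s ^ k = 1)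
    (hzc : z ∉ center G) : False := by
  haveI := Fact.mk hp
  haveI := Fact.mk hs
  obtain ⟨Q⟩ := (inferInstance : Nonempty (Sylow q G))
  have hnotle : ∀ y : G, Reg p y → y ∉ center G → ¬ (Q : Subgroup G) ≤ C[y] := fun y hy hyc hle =>
    Q.not_dvd_index (hqm.trans (h y hy hyc ▸ index_dvd_of_le hle))
  have hQelt : ∀ g ∈ (Q : Subgroup G), ∃ k, g ^ q ^ k = 1 := fun g hg => by
    obtain ⟨k, hk'⟩ := Q.isPGroup' ⟨g, hg⟩
    exact ⟨k, by simpa using congrArg Subtype.val hk'⟩
  -- the centre of a Sylow `q`-subgroup is central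
  have hZQ : ∀ c : (Q : Subgroup G), c ∈ center (Q : Subgroup G) → (c : G) ∈ center G := by
    intro c hc
    by_contra hcc
    obtain ⟨k, hk'⟩ := hQelt c c.2
    exact hnotle c (reg_of_prime_pow hp hq.out hqp hk') hcc fun g hg =>
      mem_C.mpr (congrArg Subtype.val (mem_center_iff.mp hc ⟨g, hg⟩))
  obtain ⟨c0, hc0⟩ : ∃ c : (Q : Subgroup G), c ∉ center (Q : Subgroup G) := by
    by_contra hno
    push Not at hno
    obtain ⟨k, hk'⟩ := hz
    exact hnotle z (reg_of_prime_pow hp hs hsp hk') hzc fun g hg =>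
      center_le_C z (hZQ ⟨g, hg⟩ (hno _))
  haveI : Nontrivial ((Q : Subgroup G) ⧸ center (Q : Subgroup G)) :=
    ⟨⟨QuotientGroup.mk c0, 1, fun e => hc0 ((QuotientGroup.eq_one_iff c0).mp e)⟩⟩
  haveI := (Q.isPGroup'.to_quotient (center (Q : Subgroup G))).center_nontrivial
  obtain ⟨⟨c, hc⟩, hc1⟩ := exists_ne (1 : center ((Q : Subgroup G) ⧸ center (Q : Subgroup G)))
  obtain ⟨⟨x, hxQ⟩, rfl⟩ := QuotientGroup.mk_surjective c
  have hxc : x ∉ center G := fun e => hc1 (Subtype.ext ((QuotientGroup.eq_one_iff _).mpr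
    (mem_center_iff.mpr fun g => Subtype.ext (mem_center_iff.mp e g))))
  have hxq := hQelt x hxQ
  have hx : Reg p x := reg_of_prime_pow hp hq.out hqp hxq.choose_spec
  have hQN : (Q : Subgroup G) ≤ normalizer (regPart hk hx hxc : Set G) := by
    intro u hu
    have h0 := (QuotientGroup.eq).mp (mem_center_iff.mp hc (QuotientGroup.mk ⟨u, hu⟩))
    have hd : (u * x)⁻¹ * (x * u) ∈ center G := by simpa using hZQ _ h0
    refine mem_normalizer_of_conj h hk hx hxc ⟨self_mem_C x, hx⟩ hxc ⟨?_, reg_conj hx u⟩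
    refine mem_C.mpr ?_
    set d := (u * x)⁻¹ * (x * u)
    have e1 : u * x * u⁻¹ = x * d⁻¹ := by
      rw [mul_inv_eq_iff_eq_mul]
      calc u * x = (x * u) * d⁻¹ := by simp [d, mul_assoc]
        _ = x * d⁻¹ * u := by rw [mul_assoc, mem_center_iff.mp (inv_mem hd) u, mul_assoc]
    rw [e1, mul_assoc, ← mem_center_iff.mp (inv_mem hd) x]
  -- only `q` occurs in the class size besides `p`
  have honly : ∀ t : ℕ, t.Prime → t ≠ p → t ≠ q → ¬ t ∣ m := by
    intro t ht htp htq htm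
    haveI := Fact.mk ht
    set A := regPart hk hx hxc
    set S0 := sPart A (regPart_comm hk hx hxc) t
    obtain ⟨R, hR⟩ := (sPart_isPGroup A (regPart_comm hk hx hxc) t).exists_le_sylow
    have hlt : S0.subgroupOf R < ⊤ := lt_top_iff_ne_top.mpr fun e => by
      refine R.not_dvd_index (htm.trans (h x hx hxc ▸ index_dvd_of_le fun g hg => ?_))
      exact ((subgroupOf_eq_top.mp e) hg).1.1
    haveI := R.isPGroup'.isNilpotent
    obtain ⟨g, hg1, hg2⟩ := SetLike.exists_of_lt (normalizerCondition_of_isNilpotent _ hlt)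
    obtain ⟨k, hk'⟩ := R.isPGroup' g
    have hgt : (g : G) ^ t ^ k = 1 := by simpa using congrArg Subtype.val hk'
    have hgC : (g : G) ∉ C[x] := fun e =>
      hg2 ⟨⟨e, reg_of_prime_pow hp ht htp hgt⟩, k, hgt⟩
    obtain ⟨a, hax, ⟨i, ha⟩, hac⟩ := exists_noncentral_sElement hp h hx hxc ht htp ⟨k, hgt⟩
      (fun e => hgC (center_le_C x e))
    have haS : a ∈ S0 := ⟨⟨hax, reg_of_prime_pow hp ht htp ha⟩, i, ha⟩
    have hga : (g : G) * a * (g : G)⁻¹ ∈ S0 :=
      (mem_normalizer_iff.mp hg1 ⟨a, hR haS⟩).mp haS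
    exact hgC (only_q hp h hk hqp hqm hs hsp hsq hz hzc hxq hxc hx Q hQN
      (mem_normalizer_of_conj h hk hx hxc haS.1 hac hga.1) ht ⟨k, hgt⟩ htq)
  -- the `p`-core times the regular centre
  set P0 := Cfsg.pCore p G with hP0
  haveI hP0n : P0.Normal := Cfsg.pCore_normal p G
  let T0 : Subgroup G :=
    { carrier := {g | g ∈ center G ∧ Reg p g}
      one_mem' := ⟨one_mem _, by rw [Reg, orderOf_one]; exact Nat.coprime_one_left _⟩
      mul_mem' := by
        rintro a b ⟨ha, ha'⟩ ⟨hb, hb'⟩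
        exact ⟨mul_mem ha hb, Nat.Coprime.coprime_dvd_left
          (center_comm a ha b hb).orderOf_mul_dvd_mul_orderOf (Nat.Coprime.mul_left ha' hb')⟩
      inv_mem' := by
        rintro a ⟨ha, ha'⟩
        exact ⟨inv_mem ha, by rwa [Reg, orderOf_inv]⟩ }
  haveI hT0n : T0.Normal := ⟨fun a ha g => by rwa [mem_center_iff.mp ha.1 g, mul_inv_cancel_right]⟩
  set R0 := P0 ⊔ T0
  haveI : R0.Normal := sup_normal P0 T0
  have hP0p : ∀ g ∈ P0, ∃ k, g ^ p ^ k = 1 := fun g hg => by
    obtain ⟨k, hk'⟩ := (Cores.pCore_isPGroup p G) ⟨g, hg⟩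
    exact ⟨k, by simpa using congrArg Subtype.val hk'⟩
  have hP0one : ∀ g ∈ P0, Reg p g → g = 1 := fun g hg hgr => by
    obtain ⟨k, hk'⟩ := hP0p g hg
    exact eq_one_of_two_pows hk' (pow_orderOf_eq_one g) ((Nat.Coprime.pow_left k hgr.symm))
  have hR0reg : ∀ g ∈ R0, Reg p g → g ∈ center G := by
    intro g hg hgr
    obtain ⟨a, ha, t, ht, rfl⟩ := mem_sup_of_normal_left.mp hg
    have hca : Commute (a * t) t⁻¹ := mem_center_iff.mp (inv_mem ht.1) (a * t)
    have := Nat.Coprime.coprime_dvd_left hca.orderOf_mul_dvd_mul_orderOf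
      (Nat.Coprime.mul_left hgr (show (orderOf t⁻¹).Coprime p by rw [orderOf_inv]; exact ht.2))
    rw [mul_inv_cancel_right] at this
    rw [hP0one a ha this, one_mul]
    exact ht.1
  have hxR : x ∉ R0 := fun e => hxc (hR0reg x e hx)
  let π := QuotientGroup.mk' R0
  -- the class of the image of `x` has `p`-power size
  set Kp := (centralizer ({π x} : Set (G ⧸ R0))).comap π
  have hKC : C[x] ≤ Kp := fun g hg => mem_C.mpr (by rw [← map_mul, mem_C.mp hg, map_mul])
  have hKQ : (Q : Subgroup G) ≤ Kp := by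
    intro u hu
    have h0 := (QuotientGroup.eq).mp (mem_center_iff.mp hc (QuotientGroup.mk ⟨u, hu⟩))
    have hd : (u * x)⁻¹ * (x * u) ∈ center G := by simpa using hZQ _ h0
    refine mem_C.mpr ?_
    rw [← map_mul, ← map_mul]
    refine (QuotientGroup.eq).mpr (le_sup_right (a := P0) ⟨hd, ?_⟩)
    obtain ⟨k, hk'⟩ := hQelt _ (show (u * x)⁻¹ * (x * u) ∈ (Q : Subgroup G) from
      mul_mem (inv_mem (mul_mem hu hxQ)) (mul_mem hxQ hu))
    exact reg_of_prime_pow hp hq.out hqp hk'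
  have hKi : Kp.index = (centralizer ({π x} : Set (G ⧸ R0))).index :=
    index_comap_of_surjective _ (QuotientGroup.mk'_surjective R0)
  obtain ⟨a0, ha0⟩ : ∃ a, (centralizer ({π x} : Set (G ⧸ R0))).index = p ^ a := by
    rw [← hKi]
    refine ⟨_, Nat.eq_prime_pow_of_unique_prime_dvd index_ne_zero_of_finite ?_⟩
    intro t ht htd
    by_contra htp
    rcases eq_or_ne t q with rfl | htq
    · exact Q.not_dvd_index (htd.trans (index_dvd_of_le hKQ))
    · exact honly t ht htp htq (htd.trans (h x hx hxc ▸ index_dvd_of_le hKC))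
  set K := normalClosure ({π x} : Set (G ⧸ R0))
  haveI : Group.IsSolvable K := Characters.isSolvable_normalClosure_of_index_primePow (π x) hp ha0
  haveI : Nontrivial K := ⟨⟨⟨π x, subset_normalClosure rfl⟩, 1,
    fun e => hxR ((QuotientGroup.eq_one_iff x).mp (congrArg Subtype.val e))⟩⟩
  obtain ⟨l, N0, hl, hN0n, hN0, hN0p⟩ := OrderCounts.exists_normal_pGroup K
  haveI := Fact.mk hl
  have hbar : (Cfsg.pCore l K).map K.subtype ≠ ⊥ := fun e => hN0 (by
    rw [Subgroup.map_eq_bot_iff_of_injective _ K.subtype_injective] at e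
    exact le_bot_iff.mp (e ▸ Cores.le_pCore hN0n hN0p))
  set Mb := Cfsg.pCore l (G ⧸ R0)
  have hMb : Mb ≠ ⊥ := fun e => hbar (le_bot_iff.mp (e ▸ Cores.map_subtype_pCore_le K))
  set M := Mb.comap π
  haveI hMn : M.Normal := (Cfsg.pCore_normal l (G ⧸ R0)).comap π
  have hR0M : R0 ≤ M := fun g hg => by
    show π g ∈ Mb
    rw [show π g = 1 from (QuotientGroup.eq_one_iff g).mpr hg]
    exact one_mem _
  have hMl : ∀ g ∈ M, ∃ k, g ^ l ^ k ∈ R0 := fun g hg => by
    obtain ⟨k, hk'⟩ := (Cores.pCore_isPGroup l (G ⧸ R0)) ⟨π g, hg⟩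
    exact ⟨k, (QuotientGroup.eq_one_iff _).mp (by simpa [π] using congrArg Subtype.val hk')⟩
  obtain ⟨Ls⟩ := (inferInstance : Nonempty (Sylow l M))
  set L := (Ls : Subgroup M).map M.subtype
  have hLM : L ≤ M := map_subtype_le _
  have hLl : IsPGroup l L := Ls.isPGroup'.map _
  -- `M = L R0`
  have hMLR : M ≤ L ⊔ R0 := by
    intro g hg
    set H := (L ⊔ R0).subgroupOf M
    haveI : (R0.subgroupOf M).Normal := inferInstance
    have h1 : (⟨g, hg⟩ : M) ∈ H := by
      rw [show H = ⊤ from ?_]; exact mem_top _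
      rw [← index_eq_one]
      obtain ⟨j, hj⟩ := (IsPGroup.iff_card (p := l) (G := M ⧸ R0.subgroupOf M)).mp (fun y => by
        obtain ⟨⟨y, hy⟩, rfl⟩ := QuotientGroup.mk_surjective y
        obtain ⟨k, hk'⟩ := hMl y hy
        exact ⟨k, (QuotientGroup.eq_one_iff _).mpr hk'⟩)
      have d1 : H.index ∣ l ^ j := hj ▸ index_dvd_of_le (H := R0.subgroupOf M)
        (fun y hy => mem_sup_right (S := L) hy)
      have d2 : ¬ l ∣ H.index := fun e => Ls.not_dvd_index (e.trans (index_dvd_of_le fun y hy =>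
        mem_sup_left (T := R0) ⟨y, hy, rfl⟩))
      exact Nat.dvd_one.mp (by
        have := Nat.Coprime.pow_left j (hl.coprime_iff_not_dvd.mpr d2)
        exact this ▸ Nat.dvd_gcd d1 dvd_rfl)
    exact h1
  have hlp : l ≠ p := by
    intro hlp
    subst hlp
    haveI : (Ls : Subgroup M).Normal := by
      rw [← normalizer_eq_top_iff, eq_top_iff]
      rintro ⟨g, hg⟩ -
      have hgL : g ∈ normalizer (L : Set G) := by
        refine (sup_le le_normalizer ?_) (hMLR hg)
        refine sup_le (fun a ha => ?_) (fun a ha => (center_le_normalizer (L : Set G)) ha.1)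
        have : a ∈ L := by
          have hle : (P0.subgroupOf M) ≤ (Ls : Subgroup M) :=
            le_trans (Cores.le_pCore inferInstance
              ((Cores.pCore_isPGroup l G).comap_of_injective M.subtype M.subtype_injective))
              (Cores.pCore_le_sylow Ls)
          exact ⟨⟨a, hR0M (mem_sup_left ha)⟩, hle ha, rfl⟩
        exact le_normalizer this
      refine mem_normalizer_iff.mpr fun y => ?_
      have := mem_normalizer_iff.mp hgL y
      constructor
      · intro hy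
        obtain ⟨w, hw, hwe⟩ := this.mp ⟨y, hy, rfl⟩
        rwa [show w = ⟨g, hg⟩ * y * ⟨g, hg⟩⁻¹ from Subtype.ext hwe] at hw
      · intro hy
        obtain ⟨w, hw, hwe⟩ := this.mpr ⟨_, hy, rfl⟩
        rwa [show w = y from Subtype.ext hwe] at hw
    haveI := Ls.characteristic_of_normal inferInstance
    have hLn : L.Normal := ConjAct.normal_of_characteristic_of_normal
    have hle : M ≤ R0 := hMLR.trans (sup_le (le_sup_of_le_left (Cores.le_pCore hLn hLl)) le_rfl)
    exact hMb (by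
      rw [← map_comap_eq_self_of_surjective (QuotientGroup.mk'_surjective R0) Mb]
      exact (Subgroup.map_eq_bot_iff _).mpr (hle.trans (QuotientGroup.ker_mk' R0).ge))
  obtain ⟨a1, ha1, ha1c⟩ : ∃ a ∈ L, a ∉ center G := by
    by_contra hno
    push Not at hno
    have hle : M ≤ R0 := hMLR.trans (sup_le (fun a ha => mem_sup_right ⟨hno a ha, by
      obtain ⟨k, hk'⟩ := hLl ⟨a, ha⟩
      exact reg_of_prime_pow hp hl hlp (by simpa using congrArg Subtype.val hk')⟩) le_rfl)
    exact hMb (by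
      rw [← map_comap_eq_self_of_surjective (QuotientGroup.mk'_surjective R0) Mb]
      exact (Subgroup.map_eq_bot_iff _).mpr (hle.trans (QuotientGroup.ker_mk' R0).ge))
  -- Frattini
  set N := normalizer (L : Set G)
  have hNP : ∀ g : G, ∃ n ∈ N, ∃ a ∈ P0, g = n * a := by
    have htop : N ⊔ M = ⊤ := Ls.normalizer_sup_eq_top
    have hT : T0 ≤ N := fun a ha => center_le_normalizer (L : Set G) ha.1
    have h2 : M ≤ N ⊔ P0 := hMLR.trans (sup_le (le_normalizer.trans le_sup_left)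
      (sup_le le_sup_right (hT.trans le_sup_left)))
    intro g
    have hg : g ∈ N ⊔ P0 := by
      rw [show N ⊔ P0 = ⊤ from top_le_iff.mp (htop ▸ sup_le le_sup_left h2)]; exact mem_top g
    obtain ⟨n, hn, a, ha, he⟩ := mem_sup_of_normal_right.mp hg
    exact ⟨n, hn, a, ha, he.symm⟩
  have hindex : ∀ H : Subgroup G, N ≤ H → ∀ t : ℕ, t.Prime → t ≠ p → ¬ t ∣ H.index := by
    intro H hH t ht htp htd
    obtain ⟨k, hk'⟩ := (Cores.pCore_isPGroup p G).exists_card_eq
    have e1 : P0.relIndex N = P0.index := by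
      have htop : N ⊔ P0 = ⊤ := eq_top_iff.mpr fun g _ => by
        obtain ⟨n, hn, a, ha, rfl⟩ := hNP g
        exact mul_mem (mem_sup_left hn) (mem_sup_right ha)
      rw [← relIndex_sup_right, htop, relIndex_top_right]
    have e2 := relIndex_mul_relIndex ⊥ (P0 ⊓ N) N bot_le inf_le_right
    rw [relIndex_bot_left, relIndex_bot_left, mul_comm] at e2
    rw [inf_relIndex_right, e1] at e2
    have e3 : N.index * Nat.card ↥(P0 ⊓ N : Subgroup G) = Nat.card P0 := by
      have h4 := N.index_mul_card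
      rw [← P0.index_mul_card, ← e2, ← mul_assoc, mul_comm N.index P0.index, mul_assoc] at h4
      exact Nat.eq_of_mul_eq_mul_left (Nat.pos_of_ne_zero index_ne_zero_of_finite) h4
    have : t ∣ p ^ k := hk' ▸ (htd.trans ((index_dvd_of_le hH).trans (Dvd.intro _ e3)))
    exact htp ((Nat.prime_dvd_prime_iff_eq ht hp).mp (ht.dvd_of_dvd_pow this))
  -- a member containing `L`
  have hcm : ∀ g : G, ∀ a, a ∈ L → ∀ k, g = a ^ l ^ k → g ∈ L := fun g a ha k e => e ▸ pow_mem ha _
  obtain ⟨y, hy, hyc, hLA⟩ : ∃ (y : G) (hy : Reg p y) (hyc : y ∉ center G), L ≤ regPart hk hy hyc := by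
    rcases eq_or_ne l q with hlq | hlq
    · subst hlq
      obtain ⟨Q1, hQ1⟩ := exists_sylow_le (H := N) (s := l) (hindex N le_rfl l hl hlp)
      have hLQ : L ≤ (Q1 : Subgroup G) := by
        have hsup : IsPGroup l ↥(L ⊔ (Q1 : Subgroup G) : Subgroup G) :=
          hLl.to_sup_of_normal_left' Q1.isPGroup' hQ1
        rw [← Q1.is_maximal' hsup le_sup_right]
        exact le_sup_left
      obtain ⟨g, rfl⟩ := MulAction.exists_smul_eq G Q Q1
      set y := g * x * g⁻¹
      refine ⟨y, reg_conj hx g, not_central_conj hxc g, ?_⟩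
      set A := regPart hk (reg_conj hx g) (not_central_conj hxc g)
      obtain ⟨c, hcC, ⟨i, hi⟩, hcc⟩ :=
        exists_noncentral_sElement hp h (reg_conj hx g) (not_central_conj hxc g) hs hsp hz hzc
      have hcA : c ∈ A := ⟨hcC, reg_of_prime_pow hp hs hsp hi⟩
      intro a ha
      obtain ⟨u, hu, hue⟩ := hLQ ha
      have hue' : g * u * g⁻¹ = a := hue
      -- `a` normalises `A`
      have haN : a ∈ normalizer (A : Set G) := by
        refine mem_normalizer_of_conj h hk _ _ ⟨self_mem_C y, reg_conj hx g⟩ (not_central_conj hxc g)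
          ⟨?_, reg_conj (reg_conj hx g) a⟩
        have h1 : u * x * u⁻¹ ∈ C[x] :=
          ((mem_normalizer_iff.mp (hQN hu) x).mp ⟨self_mem_C x, hx⟩).1
        have h2 := conj_mem_C (g := g) h1
        rwa [show g * (u * x * u⁻¹) * g⁻¹ = a * y * a⁻¹ by rw [← hue']; simp only [y]; group] at h2
      set e := a * c * a⁻¹ * c⁻¹ with he
      have heA : e ∈ A := mul_mem ((mem_normalizer_iff.mp haN c).mp hcA) (inv_mem hcA)
      have hce : Commute (a * c * a⁻¹) c⁻¹ :=
        regPart_comm hk _ _ _ ((mem_normalizer_iff.mp haN c).mp hcA) _ (inv_mem hcA)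
      have hes : e ^ s ^ i = 1 := by
        rw [he, hce.mul_pow, conj_pow, inv_pow, hi, mul_one, mul_inv_cancel, inv_one, one_mul]
      have heM : e ∈ M := by
        have h5 := mul_mem (hLM ha) (hMn.conj_mem _ (inv_mem (hLM ha)) c)
        rwa [show a * (c * a⁻¹ * c⁻¹) = e by rw [he]; group] at h5
      obtain ⟨j, hj⟩ := hMl e heM
      have heR : e ∈ R0 := mem_of_pow_pow R0 hj (hes.symm ▸ one_mem R0)
        (Nat.Coprime.pow _ _ ((Nat.coprime_primes hl hs).mpr hsq.symm))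
      have hec := hR0reg e heR (reg_of_prime_pow hp hs hsp hes)
      obtain ⟨o, ho⟩ := hLl ⟨a, ha⟩
      have ho' : a ^ l ^ o = 1 := by simpa using congrArg Subtype.val ho
      have hpow : ∀ n : ℕ, a ^ n * c = e ^ n * (c * a ^ n) := by
        intro n
        induction n with
        | zero => simp
        | succ n ih =>
          have hc' : a * c = e * (c * a) := by rw [he]; group
          calc a ^ (n + 1) * c = a * (a ^ n * c) := by rw [pow_succ', mul_assoc]
            _ = a * e ^ n * (c * a ^ n) := by rw [ih, mul_assoc]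
            _ = e ^ n * a * (c * a ^ n) := by rw [mem_center_iff.mp (pow_mem hec n) a]
            _ = e ^ n * ((a * c) * a ^ n) := by simp only [mul_assoc]
            _ = e ^ (n + 1) * (c * a ^ (n + 1)) := by
              rw [hc', pow_succ, pow_succ' a]; simp only [mul_assoc]
      have he1 : e = 1 := eq_one_of_two_pows (m := l ^ o) (n := s ^ i) (by
        have := hpow (l ^ o)
        rw [ho', one_mul, mul_one] at this
        exact mul_eq_right.mp this.symm) hes (Nat.Coprime.pow _ _ ((Nat.coprime_primes hl hs).mpr hsq.symm))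
      refine ⟨?_, reg_of_prime_pow hp hl hlp ho'⟩
      rw [← C_eq h hk _ _ hcA hcc]
      refine mem_C.mpr ?_
      rw [he, mul_inv_eq_one, mul_inv_eq_iff_eq_mul] at he1
      exact he1
    · have hlm : ¬ l ∣ m := honly l hl hlp hlq
      obtain ⟨S1, hS1⟩ := exists_sylow_le (H := C[x]) (s := l) (h x hx hxc ▸ hlm)
      obtain ⟨S, hS⟩ := hLl.exists_le_sylow
      obtain ⟨g, rfl⟩ := MulAction.exists_smul_eq G S1 S
      refine ⟨g * x * g⁻¹, reg_conj hx g, not_central_conj hxc g, fun a ha => ?_⟩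
      obtain ⟨u, hu, hue⟩ := hS ha
      have hue' : g * u * g⁻¹ = a := hue
      obtain ⟨o, ho⟩ := hLl ⟨a, ha⟩
      exact ⟨hue' ▸ conj_mem_C (hS1 hu), reg_of_prime_pow hp hl hlp (by simpa using congrArg Subtype.val ho)⟩
  -- the final contradiction
  set A := regPart hk hy hyc
  haveI hA : IsMulCommutative A := ⟨⟨fun a b => Subtype.ext (regPart_comm hk hy hyc a a.2 b b.2).eq⟩⟩
  set N' := normalizer (A : Set G)
  have hNN : N ≤ N' := fun n hn =>
    mem_normalizer_of_conj h hk hy hyc (hLA ha1) ha1c (hLA ((mem_normalizer_iff.mp hn a1).mp ha1))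
  have hker : ∀ n ∈ N', n ∈ P0 → n ∈ C[y] := by
    intro n hn hnP
    have hyA : y ∈ A := ⟨self_mem_C y, hy⟩
    have h1 : n * y * n⁻¹ * y⁻¹ ∈ A := mul_mem ((mem_normalizer_iff.mp hn y).mp hyA) (inv_mem hyA)
    have h2 : n * y * n⁻¹ * y⁻¹ ∈ P0 := by
      have := mul_mem hnP (hP0n.conj_mem _ (inv_mem hnP) y)
      simpa [mul_assoc] using this
    have := hP0one _ h2 h1.2
    rw [mul_inv_eq_one, mul_inv_eq_iff_eq_mul] at this
    exact mem_C.mpr this
  obtain ⟨Q2, hQ2⟩ := exists_sylow_le (H := N') (s := q) (hindex N' hNN q hq.out hqp)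
  obtain ⟨u, huQ, huC⟩ : ∃ u ∈ (Q2 : Subgroup G), u ∉ C[y] := by
    by_contra hno
    push Not at hno
    exact Q2.not_dvd_index (hqm.trans (h y hy hyc ▸ index_dvd_of_le hno))
  obtain ⟨i, hu⟩ : ∃ k, u ^ q ^ k = 1 := by
    obtain ⟨k, hk'⟩ := Q2.isPGroup' ⟨u, huQ⟩
    exact ⟨k, by simpa using congrArg Subtype.val hk'⟩
  have huR := reg_of_prime_pow hp hq.out hqp hu
  have huc : u ∉ center G := fun e => huC (center_le_C y e)
  obtain ⟨z', hz'u, ⟨j, hz'⟩, hz'c⟩ := exists_noncentral_sElement hp h huR huc hs hsp hz hzc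
  obtain ⟨n, hn, a, ha, hze⟩ := hNP z'
  have hnN : n ∈ N' := hNN hn
  let ρ := QuotientGroup.mk' P0
  have hρ : ρ z' = ρ n := by
    rw [hze, map_mul, show ρ a = 1 from (QuotientGroup.eq_one_iff a).mpr ha, mul_one]
  let φ := A.normalizerMonoidHom
  let uN : N' := ⟨u, hQ2 huQ⟩
  let nN : N' := ⟨n, hnN⟩
  have hφ : ∀ v : N', ρ (v : G) = 1 → φ v = 1 := fun v hv =>
    (mem_C_of_image_one hk hy hyc v).mpr (hker v v.2 ((QuotientGroup.eq_one_iff _).mp hv))
  have hcomm : φ uN * φ nN = φ nN * φ uN := by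
    rw [← map_mul, ← map_mul, ← mul_inv_eq_one, ← map_inv, ← map_mul]
    refine hφ _ ?_
    show ρ (u * n * (n * u)⁻¹) = 1
    rw [map_mul, map_inv, map_mul, map_mul, ← hρ, ← map_mul, ← map_mul, ← map_inv, ← map_mul,
      (mem_C.mp hz'u).symm, mul_inv_cancel, map_one]
  have hn1 : φ nN ≠ 1 := by
    intro hone
    have hnC : n ∈ C[y] := (mem_C_of_image_one hk hy hyc nN).mp hone
    have hc0 := (orderOf_pos n).ne'
    obtain ⟨t, ht⟩ := exists_pow_eq_self_of_coprime (x := z') (n := p ^ (orderOf n).factorization p)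
      (Nat.Coprime.pow_left _ (reg_of_prime_pow hp hs hsp hz').symm)
    set n1 := (n ^ p ^ (orderOf n).factorization p) ^ t
    have hn1R : Reg p n1 := by
      refine Nat.Coprime.coprime_dvd_left (orderOf_dvd_of_pow_eq_one (n := orderOf n / p ^ (orderOf n).factorization p) ?_)
        (Nat.coprime_ordCompl hp hc0).symm
      rw [← pow_mul, ← pow_mul, mul_left_comm, Nat.mul_div_cancel' (Nat.ordProj_dvd _ _), mul_comm,
        pow_mul, pow_orderOf_eq_one, one_pow]
    have hρ1 : ρ n1 = ρ z' := by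
      simp only [n1, map_pow]
      rw [← hρ, ← map_pow, ← map_pow, ht]
    have hn1A : n1 ∈ A := ⟨pow_mem (pow_mem hnC _) _, hn1R⟩
    have hd : u * n1 * u⁻¹ * n1⁻¹ ∈ P0 := by
      refine (QuotientGroup.eq_one_iff _).mp ?_
      show ρ (u * n1 * u⁻¹ * n1⁻¹) = 1
      rw [map_mul, map_mul, map_mul, map_inv ρ n1, hρ1, ← map_inv, ← map_mul, ← map_mul, ← map_mul,
        (mem_C.mp hz'u).symm, mul_inv_cancel_right, mul_inv_cancel, map_one]
    have hdA : u * n1 * u⁻¹ * n1⁻¹ ∈ A :=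
      mul_mem ((mem_normalizer_iff.mp (hQ2 huQ) n1).mp hn1A) (inv_mem hn1A)
    have h1 := hP0one _ hd hdA.2
    rw [mul_inv_eq_one, mul_inv_eq_iff_eq_mul] at h1
    by_cases hn1c : n1 ∈ center G
    · have hb : z' * n1⁻¹ ∈ P0 := (QuotientGroup.eq_one_iff _).mp (by
        show ρ (z' * n1⁻¹) = 1
        rw [map_mul, map_inv, hρ1, mul_inv_cancel])
      have hcz : Commute z' n1⁻¹ := mem_center_iff.mp (inv_mem hn1c) z'
      have h2 := hP0one _ hb (Nat.Coprime.coprime_dvd_left hcz.orderOf_mul_dvd_mul_orderOf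
        (Nat.Coprime.mul_left (reg_of_prime_pow hp hs hsp hz')
          (show (orderOf n1⁻¹).Coprime p by rw [orderOf_inv]; exact hn1R)))
      exact hz'c (mul_inv_eq_one.mp h2 ▸ hn1c)
    · exact huC (C_eq h hk hy hyc hn1A hn1c ▸ mem_C.mpr h1)
  obtain ⟨b, hbC, hbq, hbc⟩ := exists_noncentral_sElement hp h hy hyc hq.out hqp hxq hxc
  refine comm_false (semireg h hk hy hyc hA) (q := q) (k := s ^ j) (e := i) hq.out
    ⟨⟨b, hbC, reg_of_prime_pow hp hq.out hqp hbq.choose_spec⟩, ?_, hbc⟩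
    (u := ⟨φ uN, uN, rfl⟩) (z := ⟨φ nN, nN, rfl⟩) ?_ ?_ ?_ ?_ ?_ (Subtype.ext hcomm)
  · rw [← Subgroup.orderOf_coe]
    exact exists_orderOf_eq hq.out hbq
  · exact Subtype.ext (show (φ uN) ^ q ^ i = 1 by
      rw [← map_pow, show uN ^ q ^ i = 1 from Subtype.ext (by simpa using hu), map_one])
  · exact fun e => huC ((mem_C_of_image_one hk hy hyc uN).mp (congrArg Subtype.val e))
  · refine Subtype.ext (show (φ nN) ^ s ^ j = 1 from ?_)
    rw [← map_pow]
    refine hφ _ ?_
    show ρ (n ^ s ^ j) = 1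
    rw [map_pow, ← hρ, ← map_pow, hz', map_one]
  · exact fun e => hn1 (congrArg Subtype.val e)
  · exact Nat.Coprime.pow_left j ((Nat.coprime_primes hs hq.out).mpr hsq)

end Cfsg.Agent.Lib.RegularClasses
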